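import Mathlib
import Cfsg.Agent.Lib.SL2Pair

/-!
A finite group of additive permutations of `F²` containing `SL₂(F)` whose `p`-part is attained inside the
normalizer of `SL₂(F)`: the stabilizer of a flag and the fusion of transvections.
-/

set_option autoImplicit false
set_option linter.unusedSectionVars false

namespace CfsgLib.SL2Max

open CfsgLib.SL2Pair (up lo)

variable {G : Type*} [Group G] {F : Type*} [Field F]

/-- The action, and the subgroup inducing `SL₂(F)`. -/
structure Nat2 (G : Type*) [Group G] (F : Type*) [Field F] where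
  φ : G →* Equiv.Perm (Fin 2 → F)
  add : ∀ g x y, φ g (x + y) = φ g x + φ g y
  inj : Function.Injective φ
  L : Subgroup G
  ρ : ↥L ≃* Matrix.SpecialLinearGroup (Fin 2) F
  act : ∀ (l : ↥L) (w : Fin 2 → F), φ l w = (ρ l).1.mulVec w

theorem up_mulVec (s : F) (w : Fin 2 → F) : (up s).1.mulVec w = ![w 0 + s * w 1, w 1] := by
  funext i
  fin_cases i <;> simp [up, Matrix.mulVec, dotProduct, Fin.sum_univ_two]

theorem lo_mulVec (s : F) (w : Fin 2 → F) : (lo s).1.mulVec w = ![w 0, s * w 0 + w 1] := by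
  funext i
  fin_cases i <;> simp [lo, Matrix.mulVec, dotProduct, Fin.sum_univ_two]

/-- An additive map commuting with `SL₂(F)` is a scalar. -/
theorem commutant (f : (Fin 2 → F) → (Fin 2 → F)) (ha : ∀ x y, f (x + y) = f x + f y)
    (hc : ∀ (M : Matrix.SpecialLinearGroup (Fin 2) F) w, f (M.1.mulVec w) = M.1.mulVec (f w)) :
    ∃ s : F, ∀ w, f w = s • w := by
  have key0 : ∀ x, f ![x, 0] 1 = 0 := fun x => by
    have h := congrFun (hc (up 1) ![x, 0]) 0
    rw [up_mulVec, up_mulVec] at h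
    simp at h
    exact h
  have key1 : ∀ x, f ![0, x] 0 = 0 := fun x => by
    have h := congrFun (hc (lo 1) ![0, x]) 1
    rw [lo_mulVec, lo_mulVec] at h
    simp at h
    exact h
  have step : ∀ b y, f ![b * y, 0] 0 = b * f ![0, y] 1 := fun b y => by
    have h := congrFun (hc (up b) ![0, y]) 0
    rw [up_mulVec, up_mulVec, key1] at h
    have e : (![![(0 : F), y] 0 + b * ![(0 : F), y] 1, ![(0 : F), y] 1]) = ![b * y, 0] + ![0, y] := by
      funext i; fin_cases i <;> simp
    rw [e, ha] at h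
    simp [key1] at h
    exact h
  set s := f ![1, 0] 0
  have h1 : ∀ y, f ![y, 0] 0 = f ![0, y] 1 := fun y => by simpa using step 1 y
  have h2 : ∀ b, f ![b, 0] 0 = b * s := fun b => by
    have := step b 1
    rw [mul_one, ← h1 1] at this
    exact this
  refine ⟨s, fun w => ?_⟩
  have e : w = ![w 0, 0] + ![0, w 1] := by funext i; fin_cases i <;> simp
  funext i
  conv_lhs => rw [e, ha]
  fin_cases i
  · show f ![w 0, 0] 0 + f ![0, w 1] 0 = s * w 0
    rw [key1, h2, add_zero, mul_comm]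
  · show f ![w 0, 0] 1 + f ![0, w 1] 1 = s * w 1
    rw [key0, ← h1, h2, zero_add, mul_comm]

variable (A : Nat2 G F)

theorem Nat2.zero (g : G) : A.φ g 0 = 0 := by
  have := A.add g 0 0
  simpa using this

theorem Nat2.sub (g : G) (x y : Fin 2 → F) : A.φ g (x - y) = A.φ g x - A.φ g y := by
  have := A.add g (x - y) y
  rw [sub_add_cancel] at this
  exact eq_sub_of_add_eq this.symm

theorem Nat2.mul_apply (g h : G) (x : Fin 2 → F) : A.φ (g * h) x = A.φ g (A.φ h x) := by
  rw [map_mul]; rfl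

theorem Nat2.inv_self (g : G) (x : Fin 2 → F) : A.φ g (A.φ g⁻¹ x) = x := by
  rw [← A.mul_apply, mul_inv_cancel, map_one]; rfl

theorem Nat2.self_inv (g : G) (x : Fin 2 → F) : A.φ g⁻¹ (A.φ g x) = x := by
  rw [← A.mul_apply, inv_mul_cancel, map_one]; rfl

theorem Nat2.ext {g h : G} (H : ∀ w, A.φ g w = A.φ h w) : g = h := A.inj (Equiv.ext H)

/-- The element of `L` inducing a given matrix. -/
def Nat2.el (M : Matrix.SpecialLinearGroup (Fin 2) F) : G := (A.ρ.symm M : ↥A.L)

theorem Nat2.el_mem (M : Matrix.SpecialLinearGroup (Fin 2) F) : A.el M ∈ A.L := (A.ρ.symm M).2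

theorem Nat2.el_act (M : Matrix.SpecialLinearGroup (Fin 2) F) (w : Fin 2 → F) : A.φ (A.el M) w = M.1.mulVec w := by
  rw [Nat2.el, A.act, MulEquiv.apply_symm_apply]

theorem Nat2.exists_el {g : G} (hg : g ∈ A.L) : ∃ M, g = A.el M :=
  ⟨A.ρ ⟨g, hg⟩, by rw [Nat2.el, MulEquiv.symm_apply_apply]⟩

/-- The elements fixing the line `F e₁` pointwise and the quotient by it. -/
def Nat2.K : Subgroup G where
  carrier := {g | (∀ c : F, A.φ g ![c, 0] = ![c, 0]) ∧ ∀ w, A.φ g w 1 = w 1}
  one_mem' := ⟨fun c => by rw [map_one]; rfl, fun w => by rw [map_one]; rfl⟩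
  mul_mem' {a b} ha hb := ⟨fun c => by rw [A.mul_apply, hb.1, ha.1],
    fun w => by rw [A.mul_apply, ha.2, hb.2]⟩
  inv_mem' {a} ha := ⟨fun c => by conv_lhs => rw [← ha.1 c, A.self_inv],
    fun w => by conv_rhs => rw [← A.inv_self a w, ha.2]⟩

theorem Nat2.mem_K {g : G} : g ∈ A.K ↔ (∀ c : F, A.φ g ![c, 0] = ![c, 0]) ∧ ∀ w, A.φ g w 1 = w 1 := Iff.rfl

theorem line_eq {w : Fin 2 → F} (h : w 1 = 0) : w = ![w 0, 0] := by
  funext i; fin_cases i <;> simp [h]

theorem Nat2.K_shift {g : G} (hg : g ∈ A.K) (w : Fin 2 → F) :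
    A.φ g w = w + ![(A.φ g w - w) 0, 0] := by
  rw [← line_eq (w := A.φ g w - w) (by simp [hg.2 w]), add_sub_cancel]

theorem Nat2.K_comm {g h : G} (hg : g ∈ A.K) (hh : h ∈ A.K) : g * h = h * g := by
  refine A.ext fun w => ?_
  rw [A.mul_apply, A.mul_apply]
  conv_lhs => rw [A.K_shift hh w, A.add, hg.1, A.K_shift hg w]
  conv_rhs => rw [A.K_shift hg w, A.add, hh.1, A.K_shift hh w]
  rw [add_right_comm]

theorem Nat2.K_pow {g : G} (hg : g ∈ A.K) (n : ℕ) (w : Fin 2 → F) :
    A.φ (g ^ n) w = w + n • ![(A.φ g w - w) 0, 0] := by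
  induction n with
  | zero => rw [pow_zero, map_one, zero_smul, add_zero]; rfl
  | succ n ih =>
    have e : A.φ g (n • ![(A.φ g w - w) 0, 0]) = n • ![(A.φ g w - w) 0, 0] := by
      rw [Matrix.smul_cons, Matrix.smul_cons, Matrix.smul_empty, smul_zero]; exact hg.1 _
    rw [pow_succ', A.mul_apply, ih, A.add, e, succ_nsmul]
    nth_rw 1 [A.K_shift hg w]
    abel

theorem Nat2.up_mem_K (a : F) : A.el (up a) ∈ A.K :=
  ⟨fun c => by rw [A.el_act, up_mulVec]; funext i; fin_cases i <;> simp,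
    fun w => by rw [A.el_act, up_mulVec]; simp⟩

theorem Nat2.exists_up {g : G} (hL : g ∈ A.L) (hK : g ∈ A.K) : ∃ a, g = A.el (up a) := by
  obtain ⟨M, rfl⟩ := A.exists_el hL
  refine ⟨M.1 0 1, congrArg A.el (Subtype.ext ?_)⟩
  have h1 := hK.1 1
  have h2 := hK.2 ![0, 1]
  rw [A.el_act] at h1 h2
  have h3 := congrFun h1 0
  have h4 := congrFun h1 1
  simp [Matrix.mulVec, dotProduct, Fin.sum_univ_two] at h2 h3 h4
  ext i j
  fin_cases i <;> fin_cases j <;> simp [up, h2, h3, h4]

theorem Nat2.fixed_line {a : F} (ha : a ≠ 0) {w : Fin 2 → F} (h : A.φ (A.el (up a)) w = w) : w 1 = 0 := by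
  rw [A.el_act, up_mulVec] at h
  have := congrFun h 0
  simp at this
  exact this.resolve_left ha

variable [Fintype F] [Finite G] {p : ℕ} [Fact p.Prime] [CharP F p]

theorem Nat2.K_exp {g : G} (hg : g ∈ A.K) : g ^ p = 1 := by
  refine A.ext fun w => ?_
  rw [A.K_pow hg, map_one]
  show _ = w
  rw [add_eq_left]
  funext i
  simp [nsmul_eq_mul, CharP.cast_eq_zero]

theorem Nat2.K_pGroup : IsPGroup p A.K := fun g => ⟨1, Subtype.ext (by simpa using A.K_exp (p := p) g.2)⟩

theorem Nat2.card_le_K : Fintype.card F ≤ Nat.card ↥(A.K ⊓ A.L) := by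
  rw [← Nat.card_eq_fintype_card]
  refine Nat.card_le_card_of_injective
    (fun a => (⟨A.el (up a), A.up_mem_K a, A.el_mem _⟩ : ↥(A.K ⊓ A.L))) fun a b e => ?_
  have := congrArg (fun g : ↥(A.K ⊓ A.L) => A.φ (g : G) ![0, 1] 0) e
  simp only [A.el_act, up_mulVec] at this
  simpa using this

/-- Semilinearity. -/
def Nat2.Semi (g : G) (σ : RingAut F) : Prop := ∀ (c : F) (w : Fin 2 → F), A.φ g (c • w) = σ c • A.φ g w

theorem Nat2.conj_L {g : G} (hg : g ∈ Subgroup.normalizer (A.L : Set G))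
    (M : Matrix.SpecialLinearGroup (Fin 2) F) :
    ∃ M' : Matrix.SpecialLinearGroup (Fin 2) F, ∀ w, A.φ g⁻¹ (M.1.mulVec w) = M'.1.mulVec (A.φ g⁻¹ w) := by
  obtain ⟨M', hM'⟩ := A.exists_el (g := g⁻¹ * A.el M * g⁻¹⁻¹)
    ((Subgroup.mem_normalizer_iff.1 (Subgroup.inv_mem _ hg) _).1 (A.el_mem M))
  refine ⟨M', fun w => ?_⟩
  rw [← A.el_act, ← A.el_act, ← hM', ← A.mul_apply, ← A.mul_apply]
  congr 2; group

theorem Nat2.exists_semi {g : G} (hg : g ∈ Subgroup.normalizer (A.L : Set G)) : ∃ σ, A.Semi g σ := by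
  classical
  have h : ∀ c : F, ∃ s : F, ∀ w, A.φ g (c • w) = s • A.φ g w := fun c => by
    obtain ⟨s, hs⟩ := commutant (fun w => A.φ g (c • A.φ g⁻¹ w))
      (fun x y => by simp only [A.add, smul_add]) (fun M w => by
        obtain ⟨M', hM'⟩ := A.conj_L hg M
        simp only [hM']
        rw [← Matrix.mulVec_smul]
        conv_lhs => rw [← A.self_inv g (c • A.φ g⁻¹ w), ← hM', A.inv_self])
    exact ⟨s, fun w => by simpa [A.self_inv] using hs (A.φ g w)⟩
  choose s hs using h
  have hne : A.φ g ![1, 0] ≠ 0 := fun e => by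
    have := congrFun ((A.φ g).injective (e.trans (A.zero g).symm)) 0
    simp at this
  have huniq : ∀ a b : F, a • A.φ g ![1, 0] = b • A.φ g ![1, 0] → a = b := fun a b e => smul_left_injective F hne e
  let f : F →+* F :=
    { toFun := s
      map_one' := huniq _ _ (by rw [← hs, one_smul, one_smul])
      map_mul' := fun a b => huniq _ _ (by rw [← hs, mul_smul, hs, hs, mul_smul])
      map_zero' := huniq _ _ (by rw [← hs, zero_smul, zero_smul, A.zero])
      map_add' := fun a b => huniq _ _ (by rw [← hs, add_smul, A.add, hs, hs, add_smul]) }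
  exact ⟨RingEquiv.ofBijective f ⟨f.injective, Finite.injective_iff_surjective.1 f.injective⟩, hs⟩

theorem Nat2.semi_unique {g : G} {σ τ : RingAut F} (h : A.Semi g σ) (h' : A.Semi g τ) : σ = τ := by
  refine RingEquiv.ext fun c => smul_left_injective F (fun e => ?_) ((h c ![1, 0]).symm.trans (h' c ![1, 0]))
  have := congrFun ((A.φ g).injective (e.trans (A.zero g).symm)) 0
  simp at this

/-- The field automorphism. -/
noncomputable def Nat2.sig : ↥(Subgroup.normalizer (A.L : Set G)) →* RingAut F where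
  toFun g := (A.exists_semi g.2).choose
  map_one' := A.semi_unique (A.exists_semi (Subgroup.one_mem _)).choose_spec fun c w => by
    rw [map_one]; rfl
  map_mul' a b := A.semi_unique (A.exists_semi (Subgroup.mul_mem _ a.2 b.2)).choose_spec fun c w => by
    have ha := (A.exists_semi a.2).choose_spec
    have hb := (A.exists_semi b.2).choose_spec
    rw [A.mul_apply, hb, ha, A.mul_apply]; rfl

theorem Nat2.sig_spec (g : ↥(Subgroup.normalizer (A.L : Set G))) : A.Semi (g : G) (A.sig g) :=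
  (A.exists_semi g.2).choose_spec

theorem Nat2.linear {g : G} (h : A.Semi g 1) :
    ∃ M : Matrix (Fin 2) (Fin 2) F, ∀ w, A.φ g w = M.mulVec w := by
  let f : (Fin 2 → F) →ₗ[F] (Fin 2 → F) :=
    { toFun := A.φ g, map_add' := A.add g, map_smul' := fun c w => h c w }
  exact ⟨LinearMap.toMatrix' f, fun w => (LinearMap.toMatrix'_mulVec f w).symm⟩

theorem Nat2.mem_L_of_linear {g : G} (h : A.Semi g 1) {k : ℕ} (hk : g ^ p ^ k = 1) : g ∈ A.L := by
  obtain ⟨M, hM⟩ := A.linear h
  have hpow : ∀ (n : ℕ) w, A.φ (g ^ n) w = (M ^ n).mulVec w := fun n => by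
    induction n with
    | zero => intro w; rw [pow_zero, pow_zero, map_one, Matrix.one_mulVec]; rfl
    | succ n ih => intro w; rw [pow_succ', pow_succ', A.mul_apply, ih, hM, Matrix.mulVec_mulVec]
  have hMk : M ^ p ^ k = 1 := Matrix.ext_of_mulVec_single fun i => by
    rw [← hpow, hk, map_one, Matrix.one_mulVec]; rfl
  have hd : M.det = 1 := by
    have e : M.det ^ p ^ k = 1 := by rw [← Matrix.det_pow, hMk, Matrix.det_one]
    have : (M.det - 1) ^ p ^ k = 0 := by rw [sub_pow_char_pow, e, one_pow, sub_self]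
    exact sub_eq_zero.1 (eq_zero_of_pow_eq_zero this)
  rw [A.ext (g := g) (h := A.el ⟨M, hd⟩) fun w => (hM w).trans (A.el_act ⟨M, hd⟩ w).symm]
  exact A.el_mem _

end CfsgLib.SL2Max
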