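import Cfsg.Agent.Lib.SL2Max.Coord

/-!
The flag stabilizer is `SL₂(F)`'s root subgroup, and the fusion of root elements into it forces four field elements.
-/

set_option autoImplicit false
set_option linter.unusedSectionVars false

namespace CfsgLib.SL2Max

open CfsgLib.SL2Pair (up lo)

variable {G : Type*} [Group G] {F : Type*} [Field F] (A : Nat2 G F)

/-- The quadratic elements. -/
def Nat2.Quad (g : G) : Prop := ∀ w, A.φ g (A.φ g w - w) = A.φ g w - w

theorem Nat2.quad_of_mem_K {g : G} (hg : g ∈ A.K) : A.Quad g := fun w => by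
  have e : A.φ g w - w = ![(A.φ g w - w) 0, 0] := line_eq (by simp [hg.2 w])
  rw [e]
  exact hg.1 _

theorem Nat2.quad_conj {g : G} (hg : A.Quad g) (γ : G) : A.Quad (γ⁻¹ * g * γ) := fun w => by
  have h := hg (A.φ γ w)
  simp only [A.mul_apply]
  rw [show A.φ γ⁻¹ (A.φ g (A.φ γ w)) - w = A.φ γ⁻¹ (A.φ g (A.φ γ w) - A.φ γ w) by rw [A.sub, A.self_inv],
    A.inv_self, h]

variable [Fintype F] [Finite G] {p : ℕ} [Fact p.Prime] [CharP F p]

theorem Nat2.line_pow {g : G} (h : ∀ c : F, A.φ g ![c, 0] 1 = 0) (n : ℕ) :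
    ∀ c : F, A.φ (g ^ n) ![c, 0] 1 = 0 := by
  induction n with
  | zero => intro c; rw [pow_zero, map_one]; rfl
  | succ n ih =>
    intro c
    rw [pow_succ', A.mul_apply, line_eq (ih c)]
    exact h _

theorem Nat2.mem_normalizer_K {g : G} (h : ∀ c : F, A.φ g ![c, 0] 1 = 0) :
    g ∈ Subgroup.normalizer (A.K : Set G) := by
  have key : ∀ x : G, (∀ c : F, A.φ x ![c, 0] 1 = 0) → (∀ c : F, A.φ x⁻¹ ![c, 0] 1 = 0) →
      ∀ k ∈ A.K, x * k * x⁻¹ ∈ A.K := by
    intro x hx hx' k hk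
    refine ⟨fun c => ?_, fun w => ?_⟩
    · rw [A.mul_apply, A.mul_apply, line_eq (hx' c), hk.1, ← line_eq (hx' c), A.inv_self]
    · rw [A.mul_apply, A.mul_apply, A.K_shift hk (A.φ x⁻¹ w), A.add, A.inv_self, Pi.add_apply, hx, add_zero]
  have h' : ∀ c : F, A.φ g⁻¹ ![c, 0] 1 = 0 := by
    have e : g⁻¹ = g ^ (orderOf g - 1) := inv_eq_of_mul_eq_one_right (by
      rw [← pow_succ', Nat.sub_add_cancel (orderOf_pos g), pow_orderOf_eq_one])
    rw [e]
    exact A.line_pow h _
  refine Subgroup.mem_normalizer_iff.2 fun k => ⟨key g h h' k, fun hk => ?_⟩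
  have := key g⁻¹ h' (by rw [inv_inv]; exact h) _ hk
  convert this using 1
  group

theorem Nat2.line_of_normalizes {g : G} (hg : g ∈ Subgroup.normalizer (A.K : Set G)) (c : F) :
    A.φ g ![c, 0] 1 = 0 := by
  have h := ((Subgroup.mem_normalizer_iff.1 (Subgroup.inv_mem _ hg) _).1 (A.up_mem_K 1)).1 c
  simp only [inv_inv, A.mul_apply] at h
  refine A.fixed_line one_ne_zero ?_
  conv_rhs => rw [← h, A.inv_self]

/-- A Sylow subgroup inside the normalizer of `L` and containing the root group. -/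
structure Nat2.Syl (p : ℕ) (S₀ : Subgroup G) : Prop where
  pg : IsPGroup p S₀
  norm : S₀ ≤ Subgroup.normalizer (A.L : Set G)
  root : A.K ⊓ A.L ≤ S₀
  max : ∀ P : Subgroup G, IsPGroup p P → ∃ γ : G, ∀ x ∈ P, γ⁻¹ * x * γ ∈ S₀

variable {A} {S₀ : Subgroup G}

theorem Nat2.Syl.inf_L (hS : A.Syl p S₀) {l : G} (hl : l ∈ S₀) (hlL : l ∈ A.L) : l ∈ A.K := by
  classical
  let S₁ : Subgroup G := S₀ ⊓ A.L
  have hS₁ : IsPGroup p S₁ := hS.pg.to_le inf_le_left
  letI : MulAction S₁ (Fin 2 → F) :=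
    { smul := fun s w => A.φ (s : G) w
      one_smul := fun w => by show A.φ ((1 : S₁) : G) w = w; rw [Subgroup.coe_one, map_one]; rfl
      mul_smul := fun s t w => A.mul_apply (s : G) (t : G) w }
  have hdvd : p ∣ Nat.card (Fin 2 → F) := by
    obtain ⟨n, -, hn⟩ := FiniteField.card F p
    rw [Nat.card_fun, Nat.card_fin, Nat.card_eq_fintype_card, hn]
    exact dvd_pow (dvd_pow_self _ n.ne_zero) two_ne_zero
  obtain ⟨v, hv, hv0⟩ := hS₁.exists_fixed_point_of_prime_dvd_card_of_fixed_point (Fin 2 → F) hdvd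
    (a := 0) (fun s => A.zero (s : G))
  have hv1 : v 1 = 0 := A.fixed_line one_ne_zero
    (hv ⟨A.el (up 1), hS.root ⟨A.up_mem_K 1, A.el_mem _⟩, A.el_mem _⟩)
  have hc : v 0 ≠ 0 := fun e => hv0 (by rw [line_eq hv1, e]; funext i; fin_cases i <;> rfl)
  obtain ⟨M, rfl⟩ := A.exists_el hlL
  have h := hv ⟨A.el M, hl, hlL⟩
  change A.φ (A.el M) v = v at h
  rw [A.el_act, line_eq hv1] at h
  have h0 := congrFun h 0
  have h1 := congrFun h 1
  simp [Matrix.mulVec, dotProduct, Fin.sum_univ_two] at h0 h1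
  have e00 : M.1 0 0 = 1 := by
    rcases mul_eq_right₀ hc |>.1 h0 with h; exact h
  have e10 : M.1 1 0 = 0 := h1.resolve_right hc
  have e11 : M.1 1 1 = 1 := by
    have := M.2
    rw [Matrix.det_fin_two, e00, e10, one_mul, mul_zero, sub_zero] at this
    exact this
  refine ⟨fun c => ?_, fun w => ?_⟩
  · rw [A.el_act]; funext i; fin_cases i <;> simp [Matrix.mulVec, dotProduct, Fin.sum_univ_two, e00, e10]
  · rw [A.el_act]; simp [Matrix.mulVec, dotProduct, Fin.sum_univ_two, e10, e11]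

theorem Nat2.Syl.line (hS : A.Syl p S₀) {x : G} (hx : x ∈ S₀) (c : F) : A.φ x ![c, 0] 1 = 0 := by
  have hu := hS.root ⟨A.up_mem_K 1, A.el_mem _⟩
  have h := (hS.inf_L (S₀.mul_mem (S₀.mul_mem (S₀.inv_mem hx) hu) hx) (by
    have := (Subgroup.mem_normalizer_iff.1 (Subgroup.inv_mem _ (hS.norm hx)) _).1 (A.el_mem (up 1))
    rwa [inv_inv] at this)).1 c
  simp only [A.mul_apply] at h
  refine A.fixed_line one_ne_zero ?_
  conv_rhs => rw [← h, A.inv_self]

theorem Nat2.Syl.mem_L_of_sig (hS : A.Syl p S₀) {x : G} (hx : x ∈ S₀) (h : A.sig ⟨x, hS.norm hx⟩ = 1) :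
    x ∈ A.L := by
  obtain ⟨k, hk⟩ := hS.pg ⟨x, hx⟩
  have h' := A.sig_spec ⟨x, hS.norm hx⟩
  rw [h] at h'
  exact A.mem_L_of_linear (p := p) h' (k := k) (congrArg Subtype.val hk)

/-- A quadratic element of `S₀` outside `L` is an involutory field automorphism. -/
theorem Nat2.Syl.quad_cases (hS : A.Syl p S₀) {x : G} (hx : x ∈ S₀) (hq : A.Quad x) (hxL : x ∉ A.L) :
    p = 2 ∧ A.sig ⟨x, hS.norm hx⟩ ≠ 1 ∧ A.sig ⟨x, hS.norm hx⟩ ^ 2 = 1 := by
  have hne : A.sig ⟨x, hS.norm hx⟩ ≠ 1 := fun h => hxL (hS.mem_L_of_sig hx h)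
  set σ := A.sig ⟨x, hS.norm hx⟩
  have hsemi : A.Semi x σ := A.sig_spec ⟨x, hS.norm hx⟩
  set α := A.φ x ![1, 0] 0
  have he : ∀ c : F, A.φ x ![c, 0] = ![σ c * α, 0] := fun c => by
    rw [show ![c, 0] = c • ![(1 : F), 0] by simp, hsemi, line_eq (hS.line hx 1)]
    simp [α]
  have hα : α ≠ 0 := fun e => by
    have h0 : A.φ x ![1, 0] = 0 := by rw [he, map_one, one_mul, e]; simp
    have := congrFun ((A.φ x).injective (h0.trans (A.zero x).symm)) 0
    simp at this
  have key : ∀ c : F, σ (σ c * α - c) * α = σ c * α - c := fun c => by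
    have h := hq ![c, 0]
    rw [he, show ![σ c * α, 0] - ![c, 0] = ![σ c * α - c, 0] by funext i; fin_cases i <;> simp, he] at h
    simpa using congrFun h 0
  obtain ⟨l, hl⟩ : ∃ l, σ l ≠ l := by
    by_contra hall
    push Not at hall
    exact hne (RingEquiv.ext hall)
  have key' : ∀ c, α * σ α * (σ (σ l) - l) * σ (σ c) = 2 * α * (σ l - l) * σ c := fun c => by
    have h1 := key c
    have h2 := key (l * c)
    simp only [map_sub, map_mul] at h1 h2
    linear_combination h2 - l * h1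
  have h2F : (2 : F) = 0 := by
    by_contra h2
    have h1 := key' 1
    simp only [map_one, mul_one] at h1
    have hσ : ∀ c, σ (σ c) = σ c := fun c => by
      have h3 := key' c
      rw [h1] at h3
      exact mul_left_cancel₀ (mul_ne_zero (mul_ne_zero h2 hα) (sub_ne_zero.2 hl)) h3
    exact hne (RingEquiv.ext fun c => σ.injective (hσ c))
  refine ⟨?_, hne, ?_⟩
  · have h : ((2 : ℕ) : F) = 0 := by exact_mod_cast h2F
    exact (Nat.prime_dvd_prime_iff_eq (Fact.out : p.Prime) Nat.prime_two).1 ((CharP.cast_eq_zero_iff F p 2).1 h)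
  · have hl2 : σ (σ l) = l := by
      have h1 := key' 1
      simp only [map_one, mul_one, h2F, zero_mul] at h1
      exact sub_eq_zero.1 ((mul_eq_zero.1 h1).resolve_left (mul_ne_zero hα ((map_ne_zero σ).2 hα)))
    refine RingEquiv.ext fun c => ?_
    rw [pow_two]
    show σ (σ c) = c
    by_cases hc : σ c = c
    · rw [hc, hc]
    have h1 := key c
    have h2 := key (l * c)
    simp only [map_sub, map_mul, hl2] at h1 h2
    have h3 : ∀ d : F, α * σ α * (σ (σ c) - c) * σ (σ d) = 2 * α * (σ c - c) * σ d := fun d => by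
      have e1 := key d
      have e2 := key (c * d)
      simp only [map_sub, map_mul] at e1 e2
      linear_combination e2 - c * e1
    have h4 := h3 1
    simp only [map_one, mul_one, h2F, zero_mul] at h4
    exact sub_eq_zero.1 ((mul_eq_zero.1 h4).resolve_left (mul_ne_zero hα ((map_ne_zero σ).2 hα)))

instance finite_ringAut : Finite (RingAut F) := Finite.of_injective (fun e => (e : F → F)) DFunLike.coe_injective

theorem card_sq_one (p : ℕ) [Fact p.Prime] [CharP F p] : Nat.card {σ : RingAut F // σ ^ 2 = 1} ≤ 2 := by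
  classical
  letI := ZMod.algebra F p
  let Φ : (F ≃ₐ[ZMod p] F) →* RingAut F :=
    { toFun := fun f => f.toRingEquiv, map_one' := rfl, map_mul' := fun _ _ => rfl }
  haveI : IsCyclic (RingAut F) := isCyclic_of_surjective Φ fun e => ⟨AlgEquiv.ofRingEquiv (f := e) (fun x => by
    have : (e.toRingHom.comp (algebraMap (ZMod p) F)) = algebraMap (ZMod p) F := Subsingleton.elim _ _
    exact DFunLike.congr_fun this x), RingEquiv.ext fun _ => rfl⟩
  letI := Fintype.ofFinite (RingAut F)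
  rw [Nat.card_eq_fintype_card, Fintype.card_subtype]
  exact IsCyclic.card_pow_eq_one_le two_pos

theorem ringAut_two (h : Fintype.card F = 2) (σ : RingAut F) : σ = 1 := by
  classical
  refine RingEquiv.ext fun c => ?_
  show σ c = c
  have hu : ({0, 1} : Finset F) = Finset.univ := Finset.eq_univ_of_card _ (by simp [h])
  have := hu ▸ Finset.mem_univ c
  simp at this
  rcases this with rfl | rfl <;> simp

theorem two_lt_of_sig {σ : RingAut F} (hσ : σ ≠ 1) : 2 < Fintype.card F := by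
  have := Fintype.one_lt_card (α := F)
  rcases Nat.lt_or_ge 2 (Fintype.card F) with h | h
  · exact h
  · exact absurd (ringAut_two (by omega) σ) hσ

/-- Conjugating the flag stabilizer into `S₀` fixes it. -/
theorem Nat2.Syl.conj_K (hS : A.Syl p S₀) {γ : G} (h : ∀ k ∈ A.K, γ⁻¹ * k * γ ∈ S₀) :
    A.K ≤ A.L ∧ γ ∈ Subgroup.normalizer (A.K : Set G) := by
  classical
  by_cases hA : ∃ k ∈ A.K, k ≠ 1 ∧ γ⁻¹ * k * γ ∈ A.L
  · obtain ⟨k, hk, hk1, hkL⟩ := hA
    obtain ⟨a, ha⟩ := A.exists_up hkL (hS.inf_L (h k hk) hkL)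
    have ha0 : a ≠ 0 := by
      rintro rfl
      refine hk1 (conj_eq_one_iff.1 (show γ⁻¹ * k * γ⁻¹⁻¹ = 1 from ?_))
      rw [inv_inv, ha]
      exact A.ext fun w => by rw [A.el_act, up_mulVec, map_one]; funext i; fin_cases i <;> simp
    have hγ' : γ⁻¹ ∈ Subgroup.normalizer (A.K : Set G) := by
      refine A.mem_normalizer_K fun c => A.fixed_line ha0 ?_
      rw [← ha, ← A.mul_apply, mul_assoc, mul_inv_cancel, mul_one, A.mul_apply, hk.1]
    refine ⟨fun z hz => ?_, inv_inv γ ▸ Subgroup.inv_mem _ hγ'⟩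
    have hb' : γ * z * γ⁻¹ ∈ A.K :=
      (Subgroup.mem_normalizer_iff.1 (inv_inv γ ▸ Subgroup.inv_mem _ hγ') z).1 hz
    have hzS : z ∈ S₀ := by
      have := h _ hb'
      rwa [show γ⁻¹ * (γ * z * γ⁻¹) * γ = z by group] at this
    refine hS.mem_L_of_sig hzS (A.semi_unique (A.sig_spec ⟨z, hS.norm hzS⟩) fun c w => ?_)
    have hs := A.sig_spec ⟨z, hS.norm hzS⟩
    show A.φ z (c • w) = c • A.φ z w
    have hc : A.sig ⟨z, hS.norm hzS⟩ c = c := by
      have h1 := hs c ![1, 0]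
      rw [show c • ![(1 : F), 0] = ![c, 0] by simp] at h1
      change A.φ z ![c, 0] = _ at h1
      rw [hz.1, show A.φ z ![(1 : F), 0] = ![1, 0] from hz.1 1] at h1
      simpa using (congrFun h1 0).symm
    exact (hs c w).trans (by rw [hc])
  push Not at hA
  exfalso
  let f : ↥A.K →* RingAut F :=
    { toFun := fun k => A.sig ⟨γ⁻¹ * k * γ, hS.norm (h k k.2)⟩
      map_one' := by rw [← map_one A.sig]; congr 1; exact Subtype.ext (by simp)
      map_mul' := fun a b => by rw [← map_mul]; congr 1; exact Subtype.ext (by simp; group) }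
  have hf : Function.Injective f := (injective_iff_map_eq_one f).2 fun k hk => by
    by_contra hne
    exact hA k k.2 (fun e => hne (Subtype.ext e)) (hS.mem_L_of_sig (h k k.2) hk)
  have hsq : ∀ k, f k ^ 2 = 1 := fun k => by
    by_cases hk : (k : G) = 1
    · rw [show k = 1 from Subtype.ext hk, map_one, one_pow]
    exact (hS.quad_cases (h k k.2) (A.quad_conj (A.quad_of_mem_K k.2) γ) (hA k k.2 hk)).2.2
  have h2 : Nat.card A.K ≤ 2 := (Nat.card_le_card_of_injective (fun k => (⟨f k, hsq k⟩ : {σ : RingAut F // σ ^ 2 = 1}))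
    fun a b e => hf (congrArg Subtype.val e)).trans (card_sq_one p)
  have hq : Fintype.card F ≤ Nat.card A.K := A.card_le_K.trans (Subgroup.card_le_of_le inf_le_left)
  have hu : A.el (up (1 : F)) ≠ 1 := fun e => by
    have := congrFun (congrArg (fun g => A.φ g ![0, 1]) e) 0
    rw [A.el_act, up_mulVec, map_one] at this; simp at this
  have hne : f ⟨_, A.up_mem_K 1⟩ ≠ 1 := fun e =>
    hu (congrArg Subtype.val ((injective_iff_map_eq_one f).1 hf _ e))
  have := two_lt_of_sig hne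
  omega

theorem Nat2.Syl.K_le (hS : A.Syl p S₀) : A.K ≤ A.L := by
  obtain ⟨γ, hγ⟩ := hS.max A.K (A.K_pGroup)
  exact (hS.conj_K hγ).1

/-- A nontrivial root element fixes exactly the line. -/
theorem Nat2.Syl.exact_line (hS : A.Syl p S₀) {k : G} (hk : k ∈ A.K) (hk1 : k ≠ 1) {w : Fin 2 → F}
    (h : A.φ k w = w) : w 1 = 0 := by
  obtain ⟨a, rfl⟩ := A.exists_up (hS.K_le hk) hk
  refine A.fixed_line ?_ h
  rintro rfl
  exact hk1 (A.ext fun v => by rw [A.el_act, up_mulVec, map_one]; funext i; fin_cases i <;> simp)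

/-- An element whose conjugate fixes a root element's line. -/
theorem Nat2.Syl.normalizes_of_conj (hS : A.Syl p S₀) {g k : G} (hk : k ∈ A.K) (hk1 : k ≠ 1)
    (h : g * k * g⁻¹ ∈ A.K) : g ∈ Subgroup.normalizer (A.K : Set G) := by
  have h' : g⁻¹ ∈ Subgroup.normalizer (A.K : Set G) := A.mem_normalizer_K fun c => hS.exact_line hk hk1 (by
    have h1 := h.1 c
    simp only [A.mul_apply] at h1
    conv_rhs => rw [← h1, A.self_inv])
  exact inv_inv g ▸ Subgroup.inv_mem _ h'

/-- Fusion of a root element into the normalizer of another root group forces `|F| = 4`. -/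
theorem Nat2.Syl.fused (hS : A.Syl p S₀) {g k : G} (hk : k ∈ A.K) (hk1 : k ≠ 1)
    (hx : g * k * g⁻¹ ∈ Subgroup.normalizer (A.K : Set G)) (hg : g ∉ Subgroup.normalizer (A.K : Set G)) :
    p = 2 ∧ Fintype.card F = 4 := by
  classical
  have hkp : k ^ p = 1 := A.K_exp hk
  have hxp : IsPGroup p ↥(Subgroup.zpowers (g * k * g⁻¹)) := by
    rintro ⟨_, i, rfl⟩
    refine ⟨1, Subtype.ext ?_⟩
    show ((g * k * g⁻¹) ^ i) ^ p ^ 1 = 1
    rw [pow_one, ← zpow_natCast, ← zpow_mul, mul_comm, zpow_mul, zpow_natCast, conj_pow, hkp, mul_one,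
      mul_inv_cancel, one_zpow]
  obtain ⟨γ, hγ⟩ := hS.max _ ((A.K_pGroup (p := p)).to_sup_of_normal_left' hxp (Subgroup.zpowers_le.2 hx))
  have hγN := (hS.conj_K fun z hz => hγ z (Subgroup.mem_sup_left hz)).2
  set g' := γ⁻¹ * g with hg'
  set y := g' * k * g'⁻¹ with hy
  have hyS : y ∈ S₀ := by
    have := hγ _ (Subgroup.mem_sup_right (Subgroup.mem_zpowers (g * k * g⁻¹)))
    convert this using 1
    rw [hy, hg']; group
  have hg'N : g' ∉ Subgroup.normalizer (A.K : Set G) := fun h => hg (by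
    have := Subgroup.mul_mem _ hγN h
    rwa [hg', mul_inv_cancel_left] at this)
  have hyq : A.Quad y := by
    have := A.quad_conj (A.quad_of_mem_K hk) g'⁻¹
    rwa [inv_inv] at this
  have hyL : y ∉ A.L := fun h => hg'N (hS.normalizes_of_conj hk hk1 (hS.inf_L hyS h))
  obtain ⟨hp2, hσ, -⟩ := hS.quad_cases hyS hyq hyL
  refine ⟨hp2, ?_⟩
  have hy2 : y * y = 1 := by
    have : k * k = 1 := by rw [← pow_two, ← hp2]; exact hkp
    rw [hy, show g' * k * g'⁻¹ * (g' * k * g'⁻¹) = g' * (k * k) * g'⁻¹ by group, this, mul_one, mul_inv_cancel]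
  have hyN : y ∈ Subgroup.normalizer (A.K : Set G) := A.mem_normalizer_K fun c => hS.line hyS c
  set D := A.K ⊓ Subgroup.centralizer ({y} : Set G) with hD
  let f : ↥A.K →* ↥A.K :=
    { toFun := fun c => ⟨y * c * y⁻¹ * (c : G)⁻¹,
        A.K.mul_mem ((Subgroup.mem_normalizer_iff.1 hyN c).1 c.2) (A.K.inv_mem c.2)⟩
      map_one' := Subtype.ext (by simp)
      map_mul' := fun a b => Subtype.ext (by
        show y * ((a : G) * b) * y⁻¹ * ((a : G) * b)⁻¹ = y * a * y⁻¹ * (a : G)⁻¹ * (y * b * y⁻¹ * (b : G)⁻¹)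
        have h1 : y * (b : G) * y⁻¹ * (b : G)⁻¹ ∈ A.K :=
          A.K.mul_mem ((Subgroup.mem_normalizer_iff.1 hyN b).1 b.2) (A.K.inv_mem b.2)
        calc y * ((a : G) * b) * y⁻¹ * ((a : G) * b)⁻¹
            = (y * a * y⁻¹) * ((y * b * y⁻¹ * (b : G)⁻¹) * (a : G)⁻¹) := by group
          _ = _ := by rw [A.K_comm h1 (A.K.inv_mem a.2)]; group) }
  have hker : Nat.card f.ker ≤ Nat.card D := Nat.card_le_card_of_injective
    (fun c => ⟨(c : ↥A.K), (c : ↥A.K).2, Subgroup.mem_centralizer_singleton_iff.2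
      (mul_inv_eq_iff_eq_mul.1 (mul_inv_eq_one.1 (congrArg Subtype.val c.2))).symm⟩)
    fun a b e => Subtype.ext (Subtype.ext (congrArg (fun z : ↥D => (z : G)) e : _))
  have hrange : Nat.card f.range ≤ Nat.card D := by
    refine Nat.card_le_card_of_injective (fun c => (⟨(c : ↥A.K), (c : ↥A.K).2, ?_⟩ : ↥D))
      fun a b e => Subtype.ext (Subtype.ext (congrArg (fun z : ↥D => (z : G)) e : _))
    obtain ⟨_, ⟨c, hc⟩, rfl⟩ := c
    refine Subgroup.mem_centralizer_singleton_iff.2 ?_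
    show y * (c : G) * y⁻¹ * (c : G)⁻¹ * y = y * (y * c * y⁻¹ * (c : G)⁻¹)
    have hyi : y⁻¹ = y := inv_eq_of_mul_eq_one_right hy2
    have hci : (c : G)⁻¹ = c := inv_eq_of_mul_eq_one_right (by rw [← pow_two, ← hp2]; exact A.K_exp hc)
    have h1 : y * c * y⁻¹ ∈ A.K := (Subgroup.mem_normalizer_iff.1 hyN c).1 hc
    calc y * c * y⁻¹ * (c : G)⁻¹ * y = c⁻¹ * (y * c * y⁻¹) * y := by rw [A.K_comm h1 (A.K.inv_mem hc)]
      _ = _ := by rw [hyi, hci]; simp only [← mul_assoc, hy2, one_mul]; rw [mul_assoc (c * y * c) y y, hy2, mul_one]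
  have hKle : Nat.card A.K ≤ Nat.card D * Nat.card D := by
    rw [← Subgroup.card_mul_index f.ker, Subgroup.index_ker]
    exact Nat.mul_le_mul hker hrange
  have hfix : ∀ d ∈ D, ∀ c : F, A.φ (g'⁻¹ * d * g') ![c, 0] 1 = 0 := by
    intro d hd c
    refine hS.exact_line hk hk1 ?_
    have e : k * (g'⁻¹ * d * g') = (g'⁻¹ * d * g') * k := by
      have := Subgroup.mem_centralizer_singleton_iff.1 hd.2
      calc k * (g'⁻¹ * d * g') = g'⁻¹ * (y * d) * g' := by rw [hy]; group
        _ = g'⁻¹ * (d * y) * g' := by rw [this]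
        _ = _ := by rw [hy]; group
    rw [← A.mul_apply, e, A.mul_apply, hk.1]
  set D' := D.map (MulAut.conj g'⁻¹).toMonoidHom with hD'
  have hD'N : D' ≤ Subgroup.normalizer (A.K : Set G) := by
    rintro _ ⟨d, hd, rfl⟩
    exact A.mem_normalizer_K fun c => by simpa using hfix d hd c
  obtain ⟨δ, hδ⟩ := hS.max _ ((A.K_pGroup (p := p)).to_sup_of_normal_left'
    (((A.K_pGroup (p := p)).to_le inf_le_left : IsPGroup p D).map _) hD'N)
  have hδN := (hS.conj_K fun z hz => hδ z (Subgroup.mem_sup_left hz)).2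
  have hmem : ∀ d : ↥D, (g' * δ)⁻¹ * d * (g' * δ) ∈ S₀ := fun d => by
    have := hδ (g'⁻¹ * d * g') (Subgroup.mem_sup_right ⟨d, d.2, by simp⟩)
    convert this using 1
    group
  have hgδ : g' * δ ∉ Subgroup.normalizer (A.K : Set G) := fun h => hg'N (by
    have := Subgroup.mul_mem _ h (Subgroup.inv_mem _ hδN)
    rwa [mul_inv_cancel_right] at this)
  let e : ↥D →* RingAut F :=
    { toFun := fun d => A.sig ⟨(g' * δ)⁻¹ * d * (g' * δ), hS.norm (hmem d)⟩
      map_one' := by rw [← map_one A.sig]; congr 1; exact Subtype.ext (by simp)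
      map_mul' := fun a b => by rw [← map_mul]; congr 1; exact Subtype.ext (by simp; group) }
  have hout : ∀ d : ↥D, (d : G) ≠ 1 → (g' * δ)⁻¹ * d * (g' * δ) ∉ A.L := fun d hd1 hL => hgδ (by
    have h1 := hS.inf_L (hmem d) hL
    exact inv_inv (g' * δ) ▸ Subgroup.inv_mem _ (hS.normalizes_of_conj d.2.1 hd1 (by rwa [inv_inv])))
  have he : Function.Injective e := (injective_iff_map_eq_one e).2 fun d hd => by
    by_contra hne
    exact hout d (fun h => hne (Subtype.ext h)) (hS.mem_L_of_sig (hmem d) hd)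
  have hsq : ∀ d, e d ^ 2 = 1 := fun d => by
    by_cases hd : (d : G) = 1
    · rw [show d = 1 from Subtype.ext hd, map_one, one_pow]
    exact (hS.quad_cases (hmem d) (A.quad_conj (A.quad_of_mem_K d.2.1) _) (hout d hd)).2.2
  have hD2 : Nat.card D ≤ 2 := (Nat.card_le_card_of_injective (fun d => (⟨e d, hsq d⟩ : {σ : RingAut F // σ ^ 2 = 1}))
    fun a b h => he (congrArg Subtype.val h)).trans (card_sq_one p)
  have hq : Fintype.card F ≤ 4 := A.card_le_K.trans
    ((Subgroup.card_le_of_le inf_le_left).trans (hKle.trans (Nat.mul_le_mul hD2 hD2)))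
  have h2 := two_lt_of_sig hσ
  obtain ⟨n, -, hn⟩ := FiniteField.card F p
  have heven : 2 ∣ Fintype.card F := by rw [hn, hp2]; exact dvd_pow_self _ n.ne_zero
  omega

end CfsgLib.SL2Max
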