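import Cfsg.Agent.Lib.SL2Max.Flag
import Cfsg.Agent.Lib.SL2Hom
import Cfsg.Agent.Lib.SLCard
import Cfsg.Agent.Lib.SmallOrder
import Cfsg.Agent.Lib.ZJ.Replacement
import Cfsg.Agent.Lib.SmallSimple.GL4Subgroups

/-!
Four field elements: a group between `SL₂(4)` and `GL₄(2)` with Sylow 2-subgroups of order at most 8.
-/

set_option autoImplicit false
set_option linter.unusedSectionVars false
set_option linter.style.haveILetI false
set_option maxRecDepth 8000

namespace CfsgLib.SL2Max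

open CfsgLib.SL2Pair (up lo)
open scoped commutatorElement
open CfsgLib.EightSubgroups (GL4 RadFree Listed)

theorem divisors_checked : ∀ d ∈ Nat.divisors 20160, ¬ 16 ∣ d → d ∣ 2520 := by decide +kernel

theorem prime_pow_dvd_forty_two {r k : ℕ} (hr : r.Prime) (h : r ^ k ∣ 42) : k ≤ 1 := by
  by_contra hk
  have hd : r * r ∣ 42 := by
    rw [← pow_two]; exact (pow_dvd_pow r (by omega)).trans h
  have hsq : ∀ d ∈ Nat.divisors 42, ∀ e ∈ Nat.divisors 42, e * e = d → e = 1 := by decide +kernel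
  exact hr.ne_one (hsq _ (Nat.mem_divisors.2 ⟨hd, by norm_num⟩) r
    (Nat.mem_divisors.2 ⟨(dvd_mul_right r r).trans hd, by norm_num⟩) rfl)

variable {G : Type*} [Group G] {F : Type*} [Field F] [Fintype F] [Finite G] [CharP F 2]

/-- Embedding in `GL₄(2)`. -/
theorem Nat2.exists_embedding (A : Nat2 G F) (h4 : Fintype.card F = 4) :
    ∃ ι : G →* GL4, Function.Injective ι := by
  classical
  letI := ZMod.algebra F 2
  haveI : Fact (Nat.Prime 2) := ⟨Nat.prime_two⟩
  have hr : Module.finrank (ZMod 2) (Fin 2 → F) = Module.finrank (ZMod 2) (Fin 4 → ZMod 2) := by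
    have h := Module.card_eq_pow_finrank (K := ZMod 2) (V := Fin 2 → F)
    rw [Fintype.card_fun, Fintype.card_fin, h4, ZMod.card] at h
    rw [Module.finrank_fin_fun]
    exact Nat.pow_right_injective le_rfl (show 2 ^ Module.finrank (ZMod 2) (Fin 2 → F) = 2 ^ 4 by rw [← h]; norm_num)
  let e : (Fin 2 → F) ≃ₗ[ZMod 2] (Fin 4 → ZMod 2) := LinearEquiv.ofFinrankEq _ _ hr
  let lin : G → Module.End (ZMod 2) (Fin 4 → ZMod 2) := fun g =>
    e.toLinearMap.comp (((AddMonoidHom.mk' (A.φ g) (A.add g)).toZModLinearMap 2).comp e.symm.toLinearMap)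
  have hlin : ∀ g w, lin g w = e (A.φ g (e.symm w)) := fun g w => rfl
  let m : G →* Matrix (Fin 4) (Fin 4) (ZMod 2) :=
    { toFun := fun g => LinearMap.toMatrix' (lin g)
      map_one' := by
        rw [show lin 1 = LinearMap.id from LinearMap.ext fun w => by rw [hlin, map_one]; simp, LinearMap.toMatrix'_id]
      map_mul' := fun g h => by
        rw [← LinearMap.toMatrix'_comp]
        exact congrArg _ (LinearMap.ext fun w => by
          show lin (g * h) w = lin g (lin h w)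
          rw [hlin, hlin, hlin, e.symm_apply_apply, A.mul_apply]) }
  refine ⟨m.toHomUnits, fun g h hgh => A.ext fun w => ?_⟩
  have h1 : lin g = lin h := LinearMap.toMatrix'.injective (congrArg Units.val hgh)
  have h2 := LinearMap.congr_fun h1 (e w)
  rw [hlin, hlin, e.symm_apply_apply] at h2
  exact e.injective h2

variable {A : Nat2 G F} {S₀ : Subgroup G}

theorem Nat2.card_L (A : Nat2 G F) (h4 : Fintype.card F = 4) : Nat.card A.L = 60 := by
  rw [Nat.card_congr A.ρ.toEquiv, SLCard.card_SL_two, h4]; norm_num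

theorem Nat2.perfect_L (A : Nat2 G F) (h4 : Fintype.card F = 4) : A.L ≤ ⁅A.L, A.L⁆ := by
  have h : commutator ↥A.L = ⊤ := by
    have h1 := SL2Hom.commutator_top (F := F) h4.ge
    have h2 := congrArg (Subgroup.map A.ρ.symm.toMonoidHom) h1
    rw [Subgroup.map_top_of_surjective _ A.ρ.symm.surjective, commutator_def, Subgroup.map_commutator,
      Subgroup.map_top_of_surjective _ A.ρ.symm.surjective, ← commutator_def] at h2
    exact h2
  intro x hx
  have h3 : (⁅A.L, A.L⁆ : Subgroup G) = (commutator ↥A.L).map A.L.subtype := by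
    rw [commutator_def, Subgroup.map_commutator, ← MonoidHom.range_eq_map, Subgroup.range_subtype]
  rw [h3, h]
  exact ⟨⟨x, hx⟩, Subgroup.mem_top _, rfl⟩

theorem Nat2.Syl.card_le (hS : A.Syl 2 S₀) (h4 : Fintype.card F = 4) : Nat.card S₀ ≤ 8 := by
  classical
  haveI : Fact (Nat.Prime 2) := ⟨Nat.prime_two⟩
  let f : ↥S₀ →* RingAut F :=
    { toFun := fun x => A.sig ⟨x, hS.norm x.2⟩
      map_one' := map_one A.sig
      map_mul' := fun a b => map_mul A.sig ⟨a, hS.norm a.2⟩ ⟨b, hS.norm b.2⟩ }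
  have hker : ∀ x : ↥f.ker, ∃ a : F, ((x : ↥S₀) : G) = A.el (up a) := fun x =>
    have hL := hS.mem_L_of_sig (x : ↥S₀).2 x.2
    A.exists_up hL (hS.inf_L (x : ↥S₀).2 hL)
  choose a ha using hker
  have h1 : Nat.card f.ker ≤ 4 := by
    rw [← h4, ← Nat.card_eq_fintype_card]
    exact Nat.card_le_card_of_injective a fun x y e => Subtype.ext (Subtype.ext (by rw [ha x, ha y, e]))
  obtain ⟨l, hl0, hl1⟩ : ∃ l : F, l ≠ 0 ∧ l ≠ 1 := by
    by_contra hall
    push Not at hall
    have : Finset.univ ⊆ ({0, 1} : Finset F) := fun x _ => by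
      simp only [Finset.mem_insert, Finset.mem_singleton]
      by_cases hx : x = 0
      · exact Or.inl hx
      · exact Or.inr (hall x hx)
    have := Finset.card_le_card this
    rw [Finset.card_univ, h4, Finset.card_pair zero_ne_one] at this
    omega
  have h2 : Nat.card f.range ≤ 2 := by
    refine (Subgroup.card_le_card_group _).trans ?_
    have hmap : ∀ σ : RingAut F, σ l ≠ 0 ∧ σ l ≠ 1 := fun σ =>
      ⟨(map_ne_zero σ).2 hl0, fun e => hl1 (σ.injective (e.trans (map_one σ).symm))⟩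
    have hl2 : l + 1 ≠ 0 := fun e => hl1 (by rw [← CharTwo.neg_eq l, neg_eq_iff_add_eq_zero, e])
    have huniv : ({0, 1, l, l + 1} : Finset F) = Finset.univ := Finset.eq_univ_of_card _ (by
      rw [Finset.card_insert_of_notMem (by simp [hl0.symm, hl2.symm]),
        Finset.card_insert_of_notMem (by simp [hl1.symm, hl0]),
        Finset.card_pair (by simp), h4])
    have hinj : Function.Injective fun σ : RingAut F => (⟨σ l, hmap σ⟩ : {x : F // x ≠ 0 ∧ x ≠ 1}) := by
      intro σ τ e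
      have e' : σ l = τ l := congrArg Subtype.val e
      refine RingEquiv.ext fun x => ?_
      have hx := huniv ▸ Finset.mem_univ x
      simp only [Finset.mem_insert, Finset.mem_singleton] at hx
      rcases hx with rfl | rfl | rfl | rfl <;> simp [e']
    refine (Nat.card_le_card_of_injective _ hinj).trans (le_of_eq ?_)
    rw [Nat.card_eq_fintype_card, Fintype.card_subtype, show Finset.univ.filter (fun x : F => x ≠ 0 ∧ x ≠ 1) =
      Finset.univ \ {0, 1} by ext x; simp, Finset.card_sdiff_of_subset (Finset.subset_univ _), Finset.card_univ, h4,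
      Finset.card_pair zero_ne_one]
  rw [← Subgroup.card_mul_index f.ker, Subgroup.index_ker]
  calc _ ≤ 4 * 2 := Nat.mul_le_mul h1 h2
    _ = 8 := rfl

theorem Nat2.Syl.card_dvd (hS : A.Syl 2 S₀) (h4 : Fintype.card F = 4) : Nat.card G ∣ 2520 := by
  haveI : Fact (Nat.Prime 2) := ⟨Nat.prime_two⟩
  obtain ⟨ι, hι⟩ := A.exists_embedding h4
  have hd : Nat.card G ∣ 20160 := by
    rw [← EightSubgroups.card_GL4]; exact Subgroup.card_dvd_of_injective ι hι
  refine divisors_checked _ (Nat.mem_divisors.2 ⟨hd, by norm_num⟩) fun h16 => ?_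
  obtain ⟨P, hP⟩ := Sylow.exists_subgroup_card_pow_prime 2 (n := 4) h16
  obtain ⟨γ, hγ⟩ := hS.max P (IsPGroup.of_card hP)
  have := (Nat.card_le_card_of_injective (fun x : ↥P => (⟨_, hγ x x.2⟩ : ↥S₀)) fun a b e => Subtype.ext
    (mul_left_cancel (mul_right_cancel (congrArg Subtype.val e)))).trans (hS.card_le h4)
  rw [hP] at this
  omega

/-- A normalized subgroup of prime order is centralized by the perfect group `L`. -/
theorem Nat2.centralizes (A : Nat2 G F) (h4 : Fintype.card F = 4) {R : Subgroup G} (hR : (Nat.card R).Prime)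
    (hn : A.L ≤ Subgroup.normalizer (R : Set G)) : A.L ≤ Subgroup.centralizer (R : Set G) := by
  haveI : Fact (Nat.card R).Prime := ⟨hR⟩
  refine (A.perfect_L h4).trans (Subgroup.commutator_le.2 fun a ha b hb => ?_)
  rw [Subgroup.mem_centralizer_iff]
  intro r hr
  by_cases hr1 : r = 1
  · simp [hr1]
  have hgen : ∀ g ∈ A.L, ∃ n : ℤ, g * r * g⁻¹ = r ^ n := fun g hg => by
    have h1 := mem_zpowers_of_prime_card (g := (⟨r, hr⟩ : ↥R))
      (g' := ⟨g * r * g⁻¹, (Subgroup.mem_normalizer_iff.1 (hn hg) r).1 hr⟩) rfl (fun e => hr1 (congrArg Subtype.val e))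
    obtain ⟨n, hn⟩ := h1
    exact ⟨n, (congrArg Subtype.val hn).symm⟩
  obtain ⟨m, hm⟩ := hgen a⁻¹ (A.L.inv_mem ha)
  obtain ⟨n, hn'⟩ := hgen b⁻¹ (A.L.inv_mem hb)
  have e1 : a⁻¹ * b⁻¹ * r * (a⁻¹ * b⁻¹)⁻¹ = r ^ (m * n) := by
    calc a⁻¹ * b⁻¹ * r * (a⁻¹ * b⁻¹)⁻¹ = a⁻¹ * (b⁻¹ * r * b⁻¹⁻¹) * a⁻¹⁻¹ := by group
      _ = _ := by rw [hn', ← conj_zpow, hm, zpow_mul]
  have e2 : b⁻¹ * a⁻¹ * r * (b⁻¹ * a⁻¹)⁻¹ = r ^ (m * n) := by
    calc b⁻¹ * a⁻¹ * r * (b⁻¹ * a⁻¹)⁻¹ = b⁻¹ * (a⁻¹ * r * a⁻¹⁻¹) * b⁻¹⁻¹ := by group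
      _ = _ := by rw [hm, ← conj_zpow, hn', ← zpow_mul, mul_comm]
  show r * ⁅a, b⁆ = ⁅a, b⁆ * r
  symm
  calc ⁅a, b⁆ * r = (b⁻¹ * a⁻¹)⁻¹ * (a⁻¹ * b⁻¹ * r * (a⁻¹ * b⁻¹)⁻¹) * (a⁻¹ * b⁻¹) := by
        rw [commutatorElement_def]; group
    _ = (b⁻¹ * a⁻¹)⁻¹ * (b⁻¹ * a⁻¹ * r * (b⁻¹ * a⁻¹)⁻¹) * (a⁻¹ * b⁻¹) := by rw [e1, e2]
    _ = r * ⁅a, b⁆ := by rw [commutatorElement_def]; group

theorem Nat2.scalar_of_centralized (A : Nat2 G F) {r : G} (hr : ∀ l ∈ A.L, r * l = l * r) :
    ∃ s : F, ∀ w, A.φ r w = s • w :=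
  commutant (A.φ r) (A.add r) fun M w => by
    rw [← A.el_act, ← A.el_act, ← A.mul_apply, ← A.mul_apply, hr _ (A.el_mem M)]

theorem transitive_vec (w : Fin 2 → F) (hw : w ≠ 0) :
    ∃ M : Matrix.SpecialLinearGroup (Fin 2) F, M.1.mulVec ![1, 0] = w := by
  by_cases h0 : w 0 = 0
  · have h1 : w 1 ≠ 0 := fun e => hw (by funext i; fin_cases i <;> simp [h0, e])
    refine ⟨⟨!![0, -(w 1)⁻¹; w 1, 0], by simp [Matrix.det_fin_two, h1]⟩, ?_⟩
    funext i; fin_cases i <;> simp [Matrix.mulVec, dotProduct, Fin.sum_univ_two, h0]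
  · refine ⟨⟨!![w 0, 0; w 1, (w 0)⁻¹], by simp [Matrix.det_fin_two, h0]⟩, ?_⟩
    funext i; fin_cases i <;> simp [Matrix.mulVec, dotProduct, Fin.sum_univ_two]

/-- The case of a nontrivial solvable radical. -/
theorem Nat2.Syl.normal_of_solvable (hS : A.Syl 2 S₀) (h4 : Fintype.card F = 4) {N : Subgroup G} (hN : N.Normal)
    (hsol : Group.IsSolvable N) (hne : N ≠ ⊥) : A.L.Normal := by
  classical
  haveI : Fact (Nat.Prime 2) := ⟨Nat.prime_two⟩
  obtain ⟨M, ⟨hMN, hM, hMne⟩, hMmin⟩ := Set.exists_min_image {M : Subgroup G | M ≤ N ∧ M.Normal ∧ M ≠ ⊥}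
    (fun M => Nat.card M) (Set.toFinite _) ⟨N, le_rfl, hN, hne⟩
  have hMcomm : (⁅M, M⁆ : Subgroup G) = ⊥ := by
    by_contra h
    haveI := hM
    have hlt := Group.IsSolvable.commutator_lt_of_ne_bot (G := ↥N) (H := M.subgroupOf N)
      (fun e => hMne (by rwa [Subgroup.subgroupOf_eq_bot, disjoint_iff, inf_eq_left.2 hMN] at e))
    have hle : ⁅M, M⁆ ≤ M := Subgroup.commutator_le_left M M
    have := Subgroup.eq_of_le_of_card_ge hle (hMmin _ ⟨hle.trans hMN, inferInstance, h⟩)
    refine hlt.ne (Subgroup.map_injective N.subtype_injective ?_)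
    rw [Subgroup.map_commutator, Subgroup.subgroupOf_map_subtype, inf_eq_left.2 hMN, this]
  have hMc : ∀ a ∈ M, ∀ b ∈ M, a * b = b * a := fun a ha b hb =>
    commutatorElement_eq_one_iff_mul_comm.1 (Subgroup.mem_bot.1 (hMcomm ▸ Subgroup.commutator_mem_commutator ha hb))
  obtain ⟨r, hr, hrd⟩ := Nat.exists_prime_and_dvd (Finite.one_lt_card_iff_nontrivial.2
    ((Subgroup.nontrivial_iff_ne_bot M).2 hMne)).ne'
  haveI : Fact r.Prime := ⟨hr⟩
  let R : Subgroup G :=
    { carrier := {x | x ∈ M ∧ x ^ r = 1}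
      one_mem' := ⟨M.one_mem, one_pow _⟩
      mul_mem' := fun {a b} ha hb => ⟨M.mul_mem ha.1 hb.1, by
        rw [Commute.mul_pow (hMc a ha.1 b hb.1), ha.2, hb.2, one_mul]⟩
      inv_mem' := fun {a} ha => ⟨M.inv_mem ha.1, by rw [inv_pow, ha.2, inv_one]⟩ }
  have hRn : ∀ g : G, ∀ x ∈ R, g * x * g⁻¹ ∈ R := fun g x hx =>
    ⟨hM.conj_mem x hx.1 g, by rw [conj_pow, hx.2, mul_one, mul_inv_cancel]⟩
  haveI : R.Normal := ⟨fun x hx g => hRn g x hx⟩
  have hRp : IsPGroup r R := fun x => ⟨1, Subtype.ext (by simpa using x.2.2)⟩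
  have hRne : R ≠ ⊥ := by
    obtain ⟨x, hx⟩ := exists_prime_orderOf_dvd_card' r hrd
    intro e
    have : (x : G) ∈ R := ⟨x.2, by rw [← Subgroup.coe_pow, ← hx, pow_orderOf_eq_one, Subgroup.coe_one]⟩
    rw [e, Subgroup.mem_bot] at this
    rw [show x = 1 from Subtype.ext this, orderOf_one] at hx
    exact hr.ne_one hx.symm
  have hr2 : r ≠ 2 := by
    rintro rfl
    letI : MulAction R (Fin 2 → F) :=
      { smul := fun s w => A.φ (s : G) w
        one_smul := fun w => by show A.φ ((1 : R) : G) w = w; rw [Subgroup.coe_one, map_one]; rfl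
        mul_smul := fun s t w => A.mul_apply (s : G) (t : G) w }
    obtain ⟨v, hv, hv0⟩ := hRp.exists_fixed_point_of_prime_dvd_card_of_fixed_point (Fin 2 → F)
      (by rw [Nat.card_fun, Nat.card_fin, Nat.card_eq_fintype_card, h4]; norm_num) (a := 0) (fun s => A.zero (s : G))
    obtain ⟨M₁, hM₁⟩ := transitive_vec v (fun e => hv0 e.symm)
    refine hRne (R.eq_bot_iff_forall.2 fun x hx => A.ext fun w => ?_)
    rw [map_one]
    show A.φ x w = w
    by_cases hw : w = 0
    · rw [hw, A.zero]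
    obtain ⟨M₂, hM₂⟩ := transitive_vec w hw
    set l := A.el M₂ * (A.el M₁)⁻¹
    have hlv : A.φ l v = w := by
      rw [A.mul_apply, ← hM₁, ← A.el_act M₁, A.self_inv, A.el_act, hM₂]
    have h := hv ⟨l⁻¹ * x * l⁻¹⁻¹, hRn _ x hx⟩
    change A.φ (l⁻¹ * x * l⁻¹⁻¹) v = v at h
    rw [inv_inv, A.mul_apply, A.mul_apply, hlv] at h
    rw [← A.inv_self l (A.φ x w), h, hlv]
  have hscal : ∀ x ∈ R, (∀ l ∈ A.L, x * l = l * x) → x ∈ A.L → x = 1 := by
    intro x hx hc hxL
    obtain ⟨s, hs⟩ := A.scalar_of_centralized hc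
    obtain ⟨M', rfl⟩ := A.exists_el hxL
    have hM' : M'.1 = s • 1 := Matrix.ext_of_mulVec_single fun i => by
      rw [← A.el_act, hs, Matrix.smul_mulVec, Matrix.one_mulVec]
    have hd := M'.2
    rw [hM', Matrix.det_smul, Matrix.det_one, mul_one, Fintype.card_fin] at hd
    have hs1 : s = 1 := by
      have : (s + 1) ^ 2 = 0 := by rw [CharTwo.add_sq, hd, one_pow, CharTwo.add_self_eq_zero]
      exact CharTwo.add_eq_zero.1 (pow_eq_zero_iff two_ne_zero |>.1 this)
    exact A.ext fun w => by rw [hs, hs1, one_smul, map_one]; rfl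
  have hint : R ⊓ A.L = ⊥ := by
    by_contra h
    obtain ⟨k, hk⟩ := IsPGroup.iff_card.1 (hRp.to_le (inf_le_left : R ⊓ A.L ≤ R))
    have hd : r ^ k ∣ 60 := by rw [← hk, ← A.card_L h4]; exact Subgroup.card_dvd_of_le inf_le_right
    have hk1 : k = 1 := by
      have hk0 : k ≠ 0 := fun e => h (Subgroup.eq_bot_of_card_eq _ (by rw [hk, e, pow_zero]))
      by_contra hk1
      have hd2 : r * r ∣ 60 := by rw [← pow_two]; exact (pow_dvd_pow r (by omega)).trans hd
      have hsq : ∀ d ∈ Nat.divisors 60, ∀ e ∈ Nat.divisors 60, e * e = d → e = 1 ∨ e = 2 := by decide +kernel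
      rcases hsq _ (Nat.mem_divisors.2 ⟨hd2, by norm_num⟩) r
        (Nat.mem_divisors.2 ⟨(dvd_mul_right r r).trans hd2, by norm_num⟩) rfl with e | e
      exacts [hr.ne_one e, hr2 e]
    have hc := A.centralizes h4 (R := R ⊓ A.L) (by rw [hk, hk1, pow_one]; exact hr) (fun l hl =>
      CfsgLib.Local.mem_normalizer_of_map_conj_eq (Subgroup.eq_of_le_of_card_ge
        (CfsgLib.Local.map_conj_le fun x hx => ⟨hRn l x hx.1, A.L.mul_mem (A.L.mul_mem hl hx.2) (A.L.inv_mem hl)⟩)
        (Subgroup.card_map_of_injective (MulEquiv.injective _)).ge))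
    refine h ((R ⊓ A.L).eq_bot_iff_forall.2 fun x hx => hscal x hx.1 (fun l hl => ?_) hx.2)
    exact Subgroup.mem_centralizer_iff.1 (hc hl) x hx
  obtain ⟨k, hk⟩ := IsPGroup.iff_card.1 hRp
  have hk1 : k = 1 := by
    have h1 := ZJ.card_mul_eq_of_le_normalizer (H := R) (K := A.L) (Subgroup.normalizer_eq_top (H := R) ▸ le_top)
    rw [hint, Subgroup.card_bot, mul_one, hk, A.card_L h4] at h1
    have h2 : r ^ k * 60 ∣ 42 * 60 := h1 ▸ (Subgroup.card_subgroup_dvd_card _).trans (hS.card_dvd h4)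
    have hk0 : k ≠ 0 := fun e => hRne (Subgroup.eq_bot_of_card_eq _ (by rw [hk, e, pow_zero]))
    have := prime_pow_dvd_forty_two hr (Nat.dvd_of_mul_dvd_mul_right (by norm_num) h2)
    omega
  have hcen := A.centralizes h4 (R := R) (by rw [hk, hk1, pow_one]; exact hr)
    (Subgroup.normalizer_eq_top (H := R) ▸ le_top)
  obtain ⟨x, hx, hx1⟩ := R.bot_or_exists_ne_one.resolve_left hRne
  obtain ⟨s, hs⟩ := A.scalar_of_centralized fun l hl => Subgroup.mem_centralizer_iff.1 (hcen hl) x hx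
  have hs0 : s ≠ 0 := fun e => by
    have := congrFun ((A.φ x).injective ((hs ![1, 0]).trans (by rw [e, zero_smul, A.zero]) : A.φ x ![1, 0] = A.φ x 0)) 0
    simp at this
  have hs1 : s ≠ 1 := fun e => hx1 (A.ext fun w => by rw [hs, e, one_smul, map_one]; rfl)
  refine ⟨fun l hl g => ?_⟩
  -- the conjugate is linear of determinant one
  have hlin : ∀ y ∈ A.L, ∃ N : Matrix (Fin 2) (Fin 2) F, ∀ w, A.φ (g * y * g⁻¹) w = N.mulVec w := by
    intro y hy
    refine A.linear fun c w => ?_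
    show A.φ (g * y * g⁻¹) (c • w) = c • A.φ (g * y * g⁻¹) w
    have hcomm : g * y * g⁻¹ * x = x * (g * y * g⁻¹) := by
      have := Subgroup.mem_centralizer_iff.1 (hcen hy) (g⁻¹ * x * g⁻¹⁻¹) (hRn _ x hx)
      calc g * y * g⁻¹ * x = g * (y * (g⁻¹ * x * g⁻¹⁻¹)) * g⁻¹ := by group
        _ = g * ((g⁻¹ * x * g⁻¹⁻¹) * y) * g⁻¹ := by rw [this]
        _ = _ := by group
    have hsw : ∀ v, A.φ (g * y * g⁻¹) (s • v) = s • A.φ (g * y * g⁻¹) v := fun v => by
      rw [← hs, ← hs, ← A.mul_apply, ← A.mul_apply, hcomm]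
    have hl2 : s + 1 ≠ 0 := fun e => hs1 (CharTwo.add_eq_zero.1 e)
    have huniv : ({0, 1, s, s + 1} : Finset F) = Finset.univ := Finset.eq_univ_of_card _ (by
      rw [Finset.card_insert_of_notMem (by simp [hs0.symm, hl2.symm]),
        Finset.card_insert_of_notMem (by simp [hs1.symm, hs0]),
        Finset.card_pair (by simp), h4])
    have hc' := huniv ▸ Finset.mem_univ c
    simp only [Finset.mem_insert, Finset.mem_singleton] at hc'
    rcases hc' with rfl | rfl | rfl | rfl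
    · rw [zero_smul, zero_smul, A.zero]
    · rw [one_smul, one_smul]
    · exact hsw w
    · rw [add_smul, add_smul, one_smul, one_smul, A.add, hsw]
  choose! N hN using hlin
  have hNdet : ∀ y ∈ A.L, ∀ z ∈ A.L, (N (y * z)).det = (N y).det * (N z).det := fun y hy z hz => by
    rw [← Matrix.det_mul]
    exact congrArg Matrix.det (Matrix.ext_of_mulVec_single fun i => by
      rw [← Matrix.mulVec_mulVec, ← hN _ hz, ← hN _ hy, ← hN _ (mul_mem hy hz), ← A.mul_apply]
      congr 2; group)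
  let d : ↥A.L →* F :=
    { toFun := fun y => (N y).det
      map_one' := by
        rw [show N ((1 : ↥A.L) : G) = 1 from Matrix.ext_of_mulVec_single fun i => by
          rw [← hN _ (1 : ↥A.L).2, Matrix.one_mulVec, show g * ((1 : ↥A.L) : G) * g⁻¹ = 1 by simp, map_one]; rfl,
          Matrix.det_one]
      map_mul' := fun y z => hNdet _ y.2 _ z.2 }
  have hd1 : (N l).det = 1 := by
    have hle : commutator ↥A.L ≤ d.toHomUnits.ker := by
      rw [commutator_def]
      refine Subgroup.commutator_le.2 fun a _ b _ => ?_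
      rw [MonoidHom.mem_ker, map_commutatorElement]
      exact commutatorElement_eq_one_iff_mul_comm.2 (mul_comm _ _)
    have htop : (⟨l, hl⟩ : ↥A.L) ∈ commutator ↥A.L := by
      have h1 := A.perfect_L h4 hl
      rwa [show (⁅A.L, A.L⁆ : Subgroup G) = (commutator ↥A.L).map A.L.subtype by
        rw [commutator_def, Subgroup.map_commutator, ← MonoidHom.range_eq_map, Subgroup.range_subtype],
        ← Subgroup.mem_map_iff_mem A.L.subtype_injective] at *
    exact congrArg Units.val (hle htop)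
  rw [A.ext (g := g * l * g⁻¹) (h := A.el ⟨N l, hd1⟩) fun w => (hN l hl w).trans (A.el_act ⟨N l, hd1⟩ w).symm]
  exact A.el_mem _

theorem card_GL3 : Nat.card (GL (Fin 3) (ZMod 2)) = 168 := by
  rw [Matrix.card_GL_field, ZMod.card, Fin.prod_univ_three]
  norm_num

/-- The conclusion for four field elements. -/
theorem Nat2.Syl.four (hS : A.Syl 2 S₀) (h4 : Fintype.card F = 4) :
    A.L.Normal ∨ Nonempty (G ≃* ↥(alternatingGroup (Fin 7))) := by
  classical
  haveI : Fact (Nat.Prime 2) := ⟨Nat.prime_two⟩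
  by_cases hrad : ∃ N : Subgroup G, N.Normal ∧ Group.IsSolvable N ∧ N ≠ ⊥
  · obtain ⟨N, h1, h2, h3⟩ := hrad
    exact Or.inl (hS.normal_of_solvable h4 h1 h2 h3)
  push Not at hrad
  obtain ⟨ι, hι⟩ := A.exists_embedding h4
  let e : G ≃* ↥ι.range := MonoidHom.ofInjective hι
  have h60 : 60 ∣ Nat.card G := by rw [← A.card_L h4]; exact Subgroup.card_subgroup_dvd_card _
  have h2520 := hS.card_dvd h4
  have hlist : Listed G := by
    refine Listed.congr e (EightSubgroups.listed_of_radFree ?_ (RadFree.congr e fun N hN hs => hrad N hN hs))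
    intro h
    have : Nat.card G = 1 := by rw [Nat.card_congr e.toEquiv, h, Subgroup.card_bot]
    omega
  have hidx : Nat.card G = 60 * A.L.index := by rw [← A.card_L h4, Subgroup.card_mul_index]
  have halt : ∀ n, 2 ≤ n → 2 * Nat.card (alternatingGroup (Fin n)) = n.factorial := fun n hn => by
    haveI : Nontrivial (Fin n) := Fin.nontrivial_iff_two_le.2 hn
    rw [two_mul_nat_card_alternatingGroup, Nat.card_perm, Nat.card_fin]
  rcases hlist with ⟨n, h5, h8, ⟨f⟩⟩ | ⟨⟨f⟩⟩ | ⟨⟨f⟩⟩ | ⟨⟨f⟩⟩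
  · have hc := halt n (by omega)
    rw [← Nat.card_congr f.toEquiv, hidx] at hc
    rcases (show n = 5 ∨ n = 6 ∨ n = 7 ∨ n = 8 by omega) with rfl | rfl | rfl | rfl
    · left
      have : A.L.index = 1 := by simp [Nat.factorial] at hc; omega
      rw [Subgroup.index_eq_one.1 this]
      infer_instance
    · left
      have hi : A.L.index = 6 := by simp [Nat.factorial] at hc; omega
      by_contra hnn
      haveI : IsSimpleGroup (alternatingGroup (Fin 6)) := alternatingGroup.isSimpleGroup (by simp)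
      haveI : Nontrivial G := f.toEquiv.nontrivial
      haveI : IsSimpleGroup G := IsSimpleGroup.isSimpleGroup_of_surjective f.symm.toMonoidHom f.symm.surjective
      set N := Subgroup.normalizer (A.L : Set G)
      have hLN : A.L ≤ N := Subgroup.le_normalizer
      have hNtop : N ≠ ⊤ := fun h => hnn (Subgroup.normalizer_eq_top_iff.1 h)
      have h1 := SmallOrder.card_dvd_factorial_index hNtop
      have h2 : N.index ∣ 6 := hi ▸ Subgroup.index_dvd_of_le hLN
      rw [hidx, hi] at h1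
      have h6 : N.index = 6 := by
        have key : ∀ d ∈ Nat.divisors 6, 60 * 6 ∣ d.factorial → d = 6 := by decide +kernel
        exact key _ (Nat.mem_divisors.2 ⟨h2, by norm_num⟩) h1
      have hNL : A.L = N := Subgroup.eq_of_le_of_card_ge hLN (by
        have := N.card_mul_index
        rw [h6, hidx, hi] at this
        rw [A.card_L h4]; omega)
      obtain ⟨P, hP⟩ := Sylow.exists_subgroup_card_pow_prime (G := G) 2 (n := 3) (by rw [hidx, hi]; norm_num)
      obtain ⟨γ, hγ⟩ := hS.max P (IsPGroup.of_card hP)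
      have hle : ∀ x ∈ S₀, x ∈ A.L ∧ x ∈ A.K := fun x hx =>
        have hxL := hNL.ge (hS.norm hx)
        ⟨hxL, hS.inf_L hx hxL⟩
      choose a ha using fun x : ↥S₀ => A.exists_up (hle x x.2).1 (hle x x.2).2
      have h3 : Nat.card S₀ ≤ 4 := by
        rw [← h4, ← Nat.card_eq_fintype_card]
        exact Nat.card_le_card_of_injective a fun x y e => Subtype.ext (by rw [ha x, ha y, e])
      have h4' := (Nat.card_le_card_of_injective (fun x : ↥P => (⟨_, hγ x x.2⟩ : ↥S₀)) fun u v e => Subtype.ext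
        (mul_left_cancel (mul_right_cancel (congrArg Subtype.val e)))).trans h3
      rw [hP] at h4'
      omega
    · exact Or.inr ⟨f⟩
    · exfalso
      have : A.L.index = 336 := by simp [Nat.factorial] at hc; omega
      rw [hidx, this] at h2520
      norm_num at h2520
  · left
    have hc : Nat.card G = 120 := by rw [Nat.card_congr f.toEquiv, Nat.card_perm, Nat.card_fin]; rfl
    exact Subgroup.normal_of_index_eq_two (by omega)
  · exfalso
    rw [Nat.card_congr f.toEquiv, Nat.card_perm, Nat.card_fin] at h2520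
    norm_num [Nat.factorial] at h2520
  · exfalso
    rw [Nat.card_congr f.toEquiv, card_GL3] at h60
    norm_num at h60

end CfsgLib.SL2Max
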